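import Cfsg.Agent.H261.Ux.Prim
import Cfsg.Agent.H50.Ux.Stmts

/-!
# S5716, Ya0: elements with a large primitive part in a torus (helper961)
-/

set_option autoImplicit false

namespace Cfsg.Agent.H961.Ux

open Cfsg.Agent.H261.Ux

/-- **Ya0** (for `e f ≥ 3`; it fails for `e = 2`, `f = 1` and `p` a Mersenne prime) -/
theorem ya0 (L : Type) [Field L] [Finite L] (p f e c : ℕ) (hp : p.Prime) (hef : 3 ≤ e * f)
    (hL : Nat.card L = (p ^ f) ^ e) (h : 64 * (e * f) * (2 * e + 2) ^ 2 * e ≤ p ^ (e * f).totient)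
    (hc : c ∣ (p ^ f) ^ e - 1)
    (hr : ∀ r : ℕ, r.Prime → orderOf ((p : ℕ) : ZMod r) = e * f → ¬ r ∣ ((p ^ f) ^ e - 1) / c) :
    3 * c ≤ 4 * Nat.card {t : Lˣ // t ^ c = 1 ∧ ∃ k, 2 * e + 1 < k ∧ k ∣ (p ^ f) ^ e - 1 ∧
      (∀ r : ℕ, r.Prime → r ∣ k → orderOf ((p : ℕ) : ZMod r) = e * f) ∧ k ∣ orderOf t} := by
  classical
  obtain ⟨N, N', hNN, hNr, hN⟩ := H961.RG.exists_prim hef hp.two_le
  have he1 : 1 ≤ e := by
    by_contra h0
    have h1 : e = 0 := by omega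
    rw [h1, zero_mul] at hef
    omega
  have hNM : 4 * (2 * e + 2) ^ 2 ≤ N := by
    have h1 : (4 * (e * f)) * (16 * e * (2 * e + 2) ^ 2) ≤ (4 * (e * f)) * N := by
      calc (4 * (e * f)) * (16 * e * (2 * e + 2) ^ 2) = 64 * (e * f) * (2 * e + 2) ^ 2 * e := by ring
        _ ≤ _ := h
        _ ≤ _ := hN
    have h2 := Nat.le_of_mul_le_mul_left h1 (by omega)
    have h3 : 4 * (2 * e + 2) ^ 2 ≤ 16 * e * (2 * e + 2) ^ 2 := Nat.mul_le_mul_right _ (by omega)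
    omega
  have hpow : (p ^ f) ^ e = p ^ (e * f) := by rw [← pow_mul, mul_comm f e]
  have hq1 : 1 < (p ^ f) ^ e := by
    rw [hpow]
    exact Nat.one_lt_pow (by omega) hp.one_lt
  obtain ⟨c', hc'⟩ := hc
  have hc0 : 0 < c := by
    rcases Nat.eq_zero_or_pos c with h0 | h0
    · rw [h0, zero_mul] at hc'; omega
    · exact h0
  have hdiv : ((p ^ f) ^ e - 1) / c = c' := by rw [hc', Nat.mul_div_cancel_left _ hc0]
  have hcop : N.Coprime c' := by
    rw [Nat.coprime_iff_gcd_eq_one]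
    by_contra hne
    obtain ⟨r, hr1, hr2⟩ := Nat.exists_prime_and_dvd hne
    exact hr r hr1 (hNr r hr1 (hr2.trans (Nat.gcd_dvd_left _ _))) (hdiv ▸ hr2.trans (Nat.gcd_dvd_right _ _))
  have hNc : N ∣ c := by
    apply hcop.dvd_of_dvd_mul_right
    rw [← hc', hpow, ← hNN]
    exact Dvd.intro _ rfl
  obtain ⟨c'', hc''⟩ := hNc
  have hcardL : Nat.card Lˣ = (p ^ f) ^ e - 1 := by rw [Nat.card_units, hL]
  let C : Subgroup Lˣ := (powMonoidHom c : Lˣ →* Lˣ).ker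
  have hmC : ∀ t : Lˣ, t ∈ C ↔ t ^ c = 1 := fun t => MonoidHom.mem_ker
  have hC : Nat.card C = c := by
    rw [IsCyclic.card_powMonoidHom_ker, hcardL]
    exact Nat.gcd_eq_right ⟨c', hc'⟩
  have hsmall := card_small_Bp C (p := p) (d := e * f) (M := 2 * e + 2) (N := N) (N' := c'')
    (by rw [hC, hc'']) hNr
  have hsplit : Nat.card C = Nat.card {u : C // Bp p (e * f) (2 * e + 2) (orderOf u)} +
      Nat.card {u : C // ¬ Bp p (e * f) (2 * e + 2) (orderOf u)} := by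
    rw [← Nat.card_sum]
    exact Nat.card_congr (Equiv.sumCompl _).symm
  have hinj : Nat.card {u : C // Bp p (e * f) (2 * e + 2) (orderOf u)} ≤
      Nat.card {t : Lˣ // t ^ c = 1 ∧ ∃ k, 2 * e + 1 < k ∧ k ∣ (p ^ f) ^ e - 1 ∧
      (∀ r : ℕ, r.Prime → r ∣ k → orderOf ((p : ℕ) : ZMod r) = e * f) ∧ k ∣ orderOf t} := by
    refine Nat.card_le_card_of_injective (fun u => ⟨u.1.1, (hmC _).1 u.1.2, ?_⟩) ?_
    · obtain ⟨k, h1, h2, h3⟩ := u.2
      rw [← Subgroup.orderOf_coe] at h3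
      refine ⟨k, by omega, ?_, h2, h3⟩
      rw [hc']
      exact (h3.trans (orderOf_dvd_of_pow_eq_one ((hmC _).1 u.1.2))).trans (Dvd.intro _ rfl)
    · intro u v huv
      have h5 : (u.1.1 : Lˣ) = v.1.1 := congrArg (fun x => x.1) huv
      exact Subtype.ext (Subtype.ext h5)
  have h4 : 4 * (c'' * (2 * e + 2) ^ 2) ≤ c := by
    rw [hc'']
    calc 4 * (c'' * (2 * e + 2) ^ 2) = (4 * (2 * e + 2) ^ 2) * c'' := by ring
      _ ≤ N * c'' := Nat.mul_le_mul_right _ hNM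
  rw [hC] at hsplit
  omega

end Cfsg.Agent.H961.Ux
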